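import Groth.Agent.S9435
import Mathlib

/-!
# Field valued points algebraic over the image point
-/

universe u

open scoped TensorProduct

namespace Groth.Agent.UIEt15

variable {R K : Type u} [CommRing R] [Field K] [Algebra R K] (p : Ideal R) [p.IsPrime]
  [Algebra p.ResidueField K] [IsScalarTower R p.ResidueField K]

/-- A finitely generated algebra with a point over `p` has a point algebraic over `p`; algebraicity then
holds for every point with the same kernel. -/
theorem exists_isIntegral_point [IsAlgClosed K] {B : Type u} [CommRing B] [Algebra R B]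
    [Algebra.FiniteType R B] (ψ : B →ₐ[R] K) :
    ∃ ψ₁ : B →ₐ[R] K, ∀ ψ₂ : B →ₐ[R] K, RingHom.ker ψ₂ = RingHom.ker ψ₁ →
      ∀ b, IsIntegral p.ResidueField (ψ₂ b) := by
  let k := p.ResidueField
  let T := k ⊗[R] B
  let ext : (B →ₐ[R] K) → (T →ₐ[k] K) := fun χ =>
    Algebra.TensorProduct.lift (Algebra.ofId k K) χ fun _ _ => .all _ _
  have hext : ∀ χ b, ext χ (1 ⊗ₜ b) = χ b := fun χ b =>
    (Algebra.TensorProduct.lift_tmul _ _ _ _ _).trans (by rw [map_one, one_mul])
  haveI : Nontrivial T := (ext ψ).toRingHom.domain_nontrivial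
  obtain ⟨m, hm⟩ := Ideal.exists_maximal T
  letI : Field (T ⧸ m) := Ideal.Quotient.field m
  haveI : Module.Finite k (T ⧸ m) := finite_of_finite_type_of_isJacobsonRing k (T ⧸ m)
  let σ : T ⧸ m →ₐ[k] K := IsAlgClosed.lift
  let φ₁ : T →ₐ[k] K := σ.comp (Ideal.Quotient.mkₐ k m)
  let ψ₁ : B →ₐ[R] K := (φ₁.restrictScalars R).comp Algebra.TensorProduct.includeRight
  refine ⟨ψ₁, fun ψ₂ hker b => ?_⟩
  have key : ∀ t : T, ∃ (d : R) (c : B), algebraMap R k d ≠ 0 ∧ algebraMap R k d • t = (1 : k) ⊗ₜ[R] c := by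
    intro t
    induction t using TensorProduct.induction_on with
    | zero => exact ⟨1, 0, by simp, by simp⟩
    | tmul q c =>
      obtain ⟨x, y, hy, rfl⟩ := IsFractionRing.div_surjective (A := R ⧸ p) q
      obtain ⟨x, rfl⟩ := Ideal.Quotient.mk_surjective x
      obtain ⟨y, rfl⟩ := Ideal.Quotient.mk_surjective y
      have hy0 : algebraMap R k y ≠ 0 := by
        rw [IsScalarTower.algebraMap_apply R (R ⧸ p) k]
        exact IsFractionRing.to_map_ne_zero_of_mem_nonZeroDivisors hy
      refine ⟨y, x • c, hy0, ?_⟩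
      rw [TensorProduct.smul_tmul', TensorProduct.tmul_smul, TensorProduct.smul_tmul']
      congr 1
      rw [smul_eq_mul, Algebra.smul_def, mul_one, IsScalarTower.algebraMap_apply R (R ⧸ p) k x,
        IsScalarTower.algebraMap_apply R (R ⧸ p) k y]
      exact mul_div_cancel₀ _ (by rwa [IsScalarTower.algebraMap_apply R (R ⧸ p) k] at hy0)
    | add t₁ t₂ h₁ h₂ =>
      obtain ⟨d₁, c₁, hd₁, e₁⟩ := h₁
      obtain ⟨d₂, c₂, hd₂, e₂⟩ := h₂
      refine ⟨d₁ * d₂, d₂ • c₁ + d₁ • c₂, by rw [map_mul]; exact mul_ne_zero hd₁ hd₂, ?_⟩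
      rw [TensorProduct.tmul_add, TensorProduct.tmul_smul, TensorProduct.tmul_smul, ← e₁, ← e₂,
        smul_add, ← IsScalarTower.algebraMap_smul k d₂, ← IsScalarTower.algebraMap_smul k d₁, smul_smul,
        smul_smul, map_mul, mul_comm (algebraMap R k d₂)]
  have hval : ∀ (χ : T →ₐ[k] K) (t : T) (d : R) (c : B), algebraMap R k d ≠ 0 →
      algebraMap R k d • t = (1 : k) ⊗ₜ[R] c → (χ t = 0 ↔ χ ((1 : k) ⊗ₜ[R] c) = 0) := fun χ t d c hd e => by
    rw [← e, map_smul, smul_eq_zero]
    simp [hd]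
  have hk : ∀ t, φ₁ t = 0 → ext ψ₂ t = 0 := fun t ht => by
    obtain ⟨d, c, hd, e⟩ := key t
    refine (hval _ t d c hd e).2 ?_
    rw [hext, ← RingHom.mem_ker, hker]
    exact (hval φ₁ t d c hd e).1 ht
  let φ₂ : T ⧸ m →ₐ[k] K := Ideal.Quotient.liftₐ m (ext ψ₂) fun t ht => hk t (by
    change σ (Ideal.Quotient.mk m t) = 0
    rw [Ideal.Quotient.eq_zero_iff_mem.2 ht, map_zero])
  rw [← hext ψ₂ b]
  exact (Algebra.IsIntegral.isIntegral (R := k) (Ideal.Quotient.mk m ((1 : k) ⊗ₜ[R] b))).map φ₂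

omit [IsScalarTower R p.ResidueField K] in
/-- Homomorphisms agreeing on the maximal separable subextension agree on a finite extension. -/
theorem eqOn_of_separableClosure {k : Type u} [Field k] [Algebra k K] (L : IntermediateField k K)
    [FiniteDimensional k L] {Ω : Type u} [Field Ω] (i j : K →+* Ω)
    (h : ∀ x ∈ separableClosure k L, i (algebraMap L K x) = j (algebraMap L K x)) {x : K} (hx : x ∈ L) :
    i x = j x := by
  let q := ringExpChar k
  haveI : ExpChar (separableClosure k L) q := expChar_of_injective_ringHom (algebraMap k _).injective q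
  obtain ⟨n, ⟨⟨y, hy⟩, hxy⟩⟩ := IsPurelyInseparable.pow_mem (separableClosure k L) q (⟨x, hx⟩ : L)
  haveI : ExpChar Ω q := expChar_of_injective_ringHom (i.comp (algebraMap k K)).injective q
  refine iterateFrobenius_inj Ω q n ?_
  rw [iterateFrobenius_def, iterateFrobenius_def, ← map_pow, ← map_pow]
  have e : x ^ q ^ n = algebraMap L K y := by
    have := congrArg (algebraMap L K) hxy
    simpa using this.symm
  rw [e]
  exact h y hy

/-- Two algebraic points of finitely generated algebras over the point `p`: an etale algebra whose point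
controls both. -/
theorem exists_etale_controlling {B₁ B₂ : Type u} [CommRing B₁] [CommRing B₂] [Algebra R B₁] [Algebra R B₂]
    [Algebra.FiniteType R B₁] [Algebra.FiniteType R B₂] (ψ₁ : B₁ →ₐ[R] K) (ψ₂ : B₂ →ₐ[R] K)
    (h₁ : ∀ b, IsIntegral p.ResidueField (ψ₁ b)) (h₂ : ∀ b, IsIntegral p.ResidueField (ψ₂ b)) :
    ∃ (R' : Type u) (_ : CommRing R') (_ : Algebra R R') (_ : Algebra.Etale R R') (χ : R' →ₐ[R] K),
      ∀ (Ω : Type u) [Field Ω] (i j : K →+* Ω), (∀ r, i (χ r) = j (χ r)) →
        (∀ b, i (ψ₁ b) = j (ψ₁ b)) ∧ (∀ b, i (ψ₂ b) = j (ψ₂ b)) := by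
  classical
  let k := p.ResidueField
  obtain ⟨s₁, hs₁⟩ := (Algebra.FiniteType.out : (⊤ : Subalgebra R B₁).FG)
  obtain ⟨s₂, hs₂⟩ := (Algebra.FiniteType.out : (⊤ : Subalgebra R B₂).FG)
  let G : Finset K := s₁.image ψ₁ ∪ s₂.image ψ₂
  let L := IntermediateField.adjoin k (G : Set K)
  haveI : FiniteDimensional k L := IntermediateField.finiteDimensional_adjoin fun x hx => by
    rcases Finset.mem_union.1 (Finset.mem_coe.1 hx) with h | h <;>
      obtain ⟨b, -, rfl⟩ := Finset.mem_image.1 h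
    · exact h₁ b
    · exact h₂ b
  have hmem : ∀ {B : Type u} [CommRing B] [Algebra R B] (ψ : B →ₐ[R] K) (s : Finset B),
      Algebra.adjoin R (s : Set B) = ⊤ → (∀ b ∈ s, ψ b ∈ L) → ∀ b, ψ b ∈ L := by
    intro B _ _ ψ s hs hsL b
    have hb : b ∈ Algebra.adjoin R (s : Set B) := hs ▸ Algebra.mem_top
    induction hb using Algebra.adjoin_induction with
    | mem x hx => exact hsL x hx
    | algebraMap r =>
      rw [AlgHom.commutes, IsScalarTower.algebraMap_apply R k K]
      exact L.algebraMap_mem _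
    | add x y _ _ hx hy => rw [map_add]; exact add_mem hx hy
    | mul x y _ _ hx hy => rw [map_mul]; exact mul_mem hx hy
  let k' := separableClosure k L
  obtain ⟨R', _, _, _, ψ', hψ'⟩ := Groth.Agent.S9435.result R p k'
  let ι : k' →+* K := (algebraMap L K).comp (algebraMap k' L)
  let χ : R' →ₐ[R] K :=
    { ι.comp ψ'.toRingHom with
      commutes' := fun r => by
        show ι (ψ' (algebraMap R R' r)) = _
        rw [AlgHom.commutes, IsScalarTower.algebraMap_apply R k k',
          IsScalarTower.algebraMap_apply R k K]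
        rfl }
  refine ⟨R', inferInstance, inferInstance, inferInstance, χ, fun Ω _ i j hij => ?_⟩
  have hk' : i.comp ι = j.comp ι := by
    have hle : Subfield.closure (Set.range ψ') ≤ (i.comp ι).eqLocusField (j.comp ι) :=
      Subfield.closure_le.2 (by rintro _ ⟨r, rfl⟩; exact hij r)
    rw [hψ'] at hle
    exact RingHom.ext fun z => hle (Subfield.mem_top z)
  have hL : ∀ x ∈ L, i x = j x := fun x hx =>
    eqOn_of_separableClosure L i j (fun z hz => congrArg (fun f : k' →+* Ω => f ⟨z, hz⟩) hk') hx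
  exact ⟨fun b => hL _ (hmem ψ₁ s₁ hs₁ (fun c hc => IntermediateField.subset_adjoin k _
      (Finset.mem_coe.2 (Finset.mem_union_left _ (Finset.mem_image_of_mem _ hc)))) b),
    fun b => hL _ (hmem ψ₂ s₂ hs₂ (fun c hc => IntermediateField.subset_adjoin k _
      (Finset.mem_coe.2 (Finset.mem_union_right _ (Finset.mem_image_of_mem _ hc)))) b)⟩

end Groth.Agent.UIEt15
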