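import Groth.Agent.Lib.UIEt15.Ring
import Groth.Agent.Lib.AlgSpace.UI
import Groth.Agent.Lib.AlgSpace.LocP
import Groth.Agent.Lib.AlgSpEt.Lifts
import Groth.Prelude.Def_AlgSp4

/-!
# Injectivity after etale base change and universal injectivity
-/

universe u

set_option backward.isDefEq.respectTransparency.types false
set_option linter.unusedVariables false

open CategoryTheory CategoryTheory.Limits AlgebraicGeometry AlgSp Opposite
open Groth.Agent.AlgSpace Groth.Agent.AlgSpDecent

namespace Groth.Agent.UIEt15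

variable {S : Scheme.{u}}

/-- A geometric point lifts to the spectrum of a ring. -/
theorem exists_spec_lift {X : Sp S} (hX : IsAlgSpace X) {K : Type u} [Field K] [IsAlgClosed K]
    (str : Spec (CommRingCat.of K) ⟶ S) (x : (yon S).obj (Over.mk str) ⟶ X) :
    ∃ (B : CommRingCat.{u}) (sB : Spec B ⟶ S) (φ : (yon S).obj (Over.mk sB) ⟶ X)
      (g : Over.mk str ⟶ Over.mk sB), RepWith @Etale φ ∧ (yon S).map g ≫ φ = x := by
  obtain ⟨U, p, hpe, hps⟩ := hX.atlas
  obtain ⟨u, hu⟩ := surjective_ofPt hps (Points.ofPt x (IsLocalRing.closedPoint K))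
  obtain ⟨O, hO, huO, -⟩ := exists_isAffineOpen_mem_and_subset (X := U.left) (x := u) (U := ⊤) trivial
  let W : Over S := Over.mk (hO.fromSpec ≫ U.hom)
  obtain ⟨φ, hφ, hφpt⟩ : ∃ φ : (yon S).obj W ⟶ X, RepWith @Etale φ ∧
      ∀ w, Points.ofPt φ w = Points.ofPt p (hO.fromSpec w) :=
    ⟨(yon S).map (Over.homMk hO.fromSpec rfl : W ⟶ U) ≫ p,
      repWith_comp ((repWith_yon_map_iff _ _).2 (show Etale hO.fromSpec from inferInstance)) hpe,
      fun w => ofPt_map_comp _ p w⟩
  let q : FieldPt X := ⟨K, str, sect x⟩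
  have hq : q.toHom = x := exists_fieldPt_toHom str x
  obtain ⟨u', hu'⟩ : u ∈ Set.range hO.fromSpec := by rw [hO.range_fromSpec]; exact huO
  obtain ⟨l, -⟩ := AlgSpEt.exists_lift_of_point q (show IsAlgClosed K from inferInstance) (EtOver.mk φ hφ) u' (by
    show Points.ofPt φ u' = _
    rw [hφpt, hu', hu]
    show _ = Points.mk q
    rw [← Points.ofPt_toHom q (IsLocalRing.closedPoint K), hq])
  exact ⟨_, _, φ, l.1, hφ, l.2.trans hq⟩

/-- A point of a space over an affine scheme, injective on points over it, lifts to a point algebraic over its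
image. -/
theorem exists_integral_lift {P : Sp S} (hP : IsAlgSpace P) {K : Type u} [Field K] [IsAlgClosed K]
    (str : Spec (CommRingCat.of K) ⟶ S) {R : CommRingCat.{u}} (sR : Spec R ⟶ S)
    (c : Over.mk str ⟶ Over.mk sR) (π : P ⟶ (yon S).obj (Over.mk sR))
    (hft : LocP @LocallyOfFiniteType π) (hinj : Function.Injective (Points.map π))
    [Algebra R K] (hc : c.left = Spec.map (CommRingCat.ofHom (algebraMap R K))) (p : Ideal R) [p.IsPrime]
    [Algebra p.ResidueField K] [IsScalarTower R p.ResidueField K]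
    (A : (yon S).obj (Over.mk str) ⟶ P) (hA : A ≫ π = (yon S).map c) :
    ∃ (B : Type u) (_ : CommRing B) (_ : Algebra R B) (_ : Algebra.FiniteType R B)
      (sB : Spec (CommRingCat.of B) ⟶ S) (φ : (yon S).obj (Over.mk sB) ⟶ P)
      (g : Over.mk str ⟶ Over.mk sB) (ψ : B →ₐ[R] K), (yon S).map g ≫ φ = A ∧
        g.left = Spec.map (CommRingCat.ofHom ψ.toRingHom) ∧ ∀ b, IsIntegral p.ResidueField (ψ b) := by
  obtain ⟨B, sB, φ, g, hφ, hg⟩ := exists_spec_lift hP str A
  obtain ⟨h, hh⟩ := (yon S).map_surjective (φ ≫ π)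
  have hgh : g ≫ h = c := (yon S).map_injective (by
    rw [Functor.map_comp, hh, ← Category.assoc, hg, hA])
  haveI hl : LocallyOfFiniteType h.left := hft φ (𝟙 _) h hφ (repWith_id _ _) (by rw [Category.comp_id, hh])
  obtain ⟨β, hβ⟩ : ∃ β : R ⟶ B, Spec.map β = h.left := ⟨Spec.preimage h.left, Spec.map_preimage _⟩
  letI : Algebra R B := β.hom.toAlgebra
  haveI : Algebra.FiniteType R B := RingHom.finiteType_algebraMap.1
    ((HasRingHomProperty.Spec_iff (P := @LocallyOfFiniteType) (φ := β)).1 (by rw [hβ]; exact hl))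
  obtain ⟨γ, hγ⟩ : ∃ γ : B ⟶ CommRingCat.of K, Spec.map γ = g.left :=
    ⟨Spec.preimage g.left, Spec.map_preimage _⟩
  have hγβ : β ≫ γ = CommRingCat.ofHom (algebraMap R K) := by
    apply Spec.map_injective
    rw [Spec.map_comp, hγ, hβ, ← hc, ← hgh]
    rfl
  let ψ : B →ₐ[R] K :=
    { γ.hom with commutes' := fun r => congrArg (fun m : R ⟶ CommRingCat.of K => m.hom r) hγβ }
  obtain ⟨ψ₁, hψ₁⟩ := exists_isIntegral_point p ψ
  have hto : ∀ χ : B →ₐ[R] K, Spec.map (CommRingCat.ofHom χ.toRingHom) ≫ h.left = c.left := fun χ => by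
    rw [← hβ, ← Spec.map_comp, hc]
    exact congrArg Spec.map (CommRingCat.hom_ext (RingHom.ext fun r => χ.commutes r))
  let g₁ : Over.mk str ⟶ Over.mk sB := Over.homMk (Spec.map (CommRingCat.ofHom ψ₁.toRingHom)) (by
    show _ ≫ sB = str
    rw [show sB = h.left ≫ sR from (Over.w h).symm]
    exact (Category.assoc _ _ _).symm.trans ((congrArg (· ≫ _) (hto ψ₁)).trans (Over.w c)))
  let τ : ↥(Over.mk str).left := IsLocalRing.closedPoint K
  have hpt : Points.ofPt A τ = Points.ofPt φ (g₁.left τ) := hinj (by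
    rw [Points.map_ofPt, Points.map_ofPt, hA, ← hh, ← ofPt_map_comp, ← Functor.map_comp]
    exact congrArg (fun m => Points.ofPt ((yon S).map m) τ) (Over.OverMorphism.ext (hto ψ₁)).symm)
  let q : FieldPt P := ⟨K, str, sect A⟩
  have hq : q.toHom = A := exists_fieldPt_toHom str A
  obtain ⟨l, hlpt⟩ := AlgSpEt.exists_lift_of_point q (show IsAlgClosed K from inferInstance) (EtOver.mk φ hφ)
    (g₁.left τ) (by
    show Points.ofPt φ (g₁.left τ) = _
    rw [← hpt]
    show _ = Points.mk q
    rw [← Points.ofPt_toHom q τ, hq])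
  obtain ⟨g₂, hg₂, hlpt⟩ : ∃ g₂ : Over.mk str ⟶ Over.mk sB, (yon S).map g₂ ≫ φ = A ∧
      g₂.left τ = g₁.left τ := ⟨l.1, l.2.trans hq, hlpt⟩
  obtain ⟨γ₂, hγ₂⟩ : ∃ γ₂ : B ⟶ CommRingCat.of K, Spec.map γ₂ = g₂.left :=
    ⟨Spec.preimage g₂.left, Spec.map_preimage _⟩
  have hγ₂β : β ≫ γ₂ = CommRingCat.ofHom (algebraMap R K) := by
    apply Spec.map_injective
    rw [Spec.map_comp, hγ₂, hβ, ← hc]
    exact congrArg CommaMorphism.left (show g₂ ≫ h = c from (yon S).map_injective (by
      rw [Functor.map_comp, hh, ← Category.assoc, hg₂, hA]))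
  let ψ₂ : B →ₐ[R] K :=
    { γ₂.hom with commutes' := fun r => congrArg (fun m : R ⟶ CommRingCat.of K => m.hom r) hγ₂β }
  refine ⟨B, inferInstance, inferInstance, inferInstance, sB, φ, g₂, ψ₂, hg₂, hγ₂.symm, hψ₁ ψ₂ ?_⟩
  have hker : ∀ δ : B ⟶ CommRingCat.of K, (Spec.map δ τ).asIdeal = RingHom.ker δ.hom := fun δ => by
    show (IsLocalRing.closedPoint K).asIdeal.comap δ.hom = _
    rw [show (IsLocalRing.closedPoint K).asIdeal = IsLocalRing.maximalIdeal K from rfl,
      IsLocalRing.maximalIdeal_eq_bot, RingHom.ker_eq_comap_bot]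
  have e : Spec.map γ₂ τ = Spec.map (CommRingCat.ofHom ψ₁.toRingHom) τ := by rw [hγ₂]; exact hlpt
  exact (hker γ₂).symm.trans ((congrArg PrimeSpectrum.asIdeal e).trans (hker _))

/-- A point of a field is an equalizer of two points as soon as a nonempty scheme over it is. -/
theorem eq_of_comp_eq {X Y : Sp S} (hX : IsAlgSpace X) {f : X ⟶ Y} {K : Type u} [Field K]
    (str : Spec (CommRingCat.of K) ⟶ S) {a b : (yon S).obj (Over.mk str) ⟶ X} (hab : a ≫ f = b ≫ f)
    {T : Over S} [Nonempty ↥T.left] (j : T ⟶ Over.mk str)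
    (hj : (yon S).map j ≫ a = (yon S).map j ≫ b) : a = b := by
  have hd := representable_diagonal hX f
  let t := pullback.lift (f := f) (g := f) a b hab
  have sq := hd.isPullback t
  have hmono : Mono (hd.snd t).left := (repWith_diagonal_mono hX f).2 t _ _ sq
  obtain ⟨l, hl⟩ := (yon S).map_surjective (sq.lift ((yon S).map j ≫ a) ((yon S).map j) (by
    apply pullback.hom_ext
    · simp only [Category.assoc, pullback.diagonal_fst, Category.comp_id, t, pullback.lift_fst]
    · simp only [Category.assoc, pullback.diagonal_snd, Category.comp_id, t, pullback.lift_snd]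
      exact hj))
  have : Nonempty ↥(hd.pullback t).left := ⟨l.left (Classical.arbitrary _)⟩
  have : IsIso ((Over.forget S).map (hd.snd t)) := isIso_of_mono_field (hd.snd t).left
  have : IsIso (hd.snd t) := isIso_of_reflects_iso _ (Over.forget S)
  have w₁ := sq.w =≫ pullback.fst f f
  have w₂ := sq.w =≫ pullback.snd f f
  simp only [Category.assoc, pullback.diagonal_fst, pullback.diagonal_snd, Category.comp_id, t,
    pullback.lift_fst, pullback.lift_snd] at w₁ w₂
  exact (cancel_epi ((yon S).map (hd.snd t))).1 (w₁.symm.trans w₂)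

/-- Injectivity after etale base change gives injectivity on geometric points. -/
theorem eq_of_algClosed {X Y : AlgSp.Space S} (f : X ⟶ Y) (hft : LocP @LocallyOfFiniteType f.hom)
    (hinj : ∀ (V : AlgSp.Space S) (g : V ⟶ Y), IsEtaleMor g.hom →
      ∀ (P : Sp S) (fst : P ⟶ X.obj) (snd : P ⟶ V.obj), IsPullback fst snd f.hom g.hom →
        Function.Injective (Points.map snd))
    {K : Type u} [Field K] [IsAlgClosed K] (str : Spec (CommRingCat.of K) ⟶ S)
    (a b : (yon S).obj (Over.mk str) ⟶ X.obj) (hab : a ≫ f.hom = b ≫ f.hom) : a = b := by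
  obtain ⟨R, sR, v, c, hv, hc⟩ := exists_spec_lift Y.property str (a ≫ f.hom)
  obtain ⟨γ, hγ⟩ : ∃ γ : R ⟶ CommRingCat.of K, Spec.map γ = c.left := ⟨Spec.preimage c.left, Spec.map_preimage _⟩
  letI : Algebra R K := γ.hom.toAlgebra
  let p : Ideal R := RingHom.ker (algebraMap R K)
  haveI : p.IsPrime := RingHom.ker_isPrime _
  let kK : p.ResidueField →+* K := Ideal.ResidueField.lift p (algebraMap R K) le_rfl
    fun r hr => isUnit_iff_ne_zero.2 fun h => hr h
  letI : Algebra p.ResidueField K := kK.toAlgebra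
  haveI : IsScalarTower R p.ResidueField K :=
    IsScalarTower.of_algebraMap_eq fun r => (Ideal.ResidueField.lift_algebraMap p _ _ _ r).symm
  have sq := IsPullback.of_hasPullback f.hom v
  have hP := isAlgSpace_pullback Y.property X.property (IsAlgSpace.yon_obj _) sq
  have hftP : LocP @LocallyOfFiniteType (pullback.snd f.hom v) :=
    locP_of_isPullback X.property Y.property (IsAlgSpace.yon_obj _) sq hft
  let Vs : AlgSp.Space S := ⟨(yon S).obj (Over.mk sR), IsAlgSpace.yon_obj _⟩
  have hinjP : Function.Injective (Points.map (pullback.snd f.hom v)) :=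
    hinj Vs (ObjectProperty.homMk v) (isEtaleMor_of_repWith v hv) _ _ _ sq
  obtain ⟨B₁, _, _, _, sB₁, φ₁, g₁, ψ₁, hg₁, hgψ₁, hint₁⟩ := exists_integral_lift hP str sR c _ hftP hinjP
    hγ.symm p (sq.lift a ((yon S).map c) hc.symm) (sq.lift_snd _ _ _)
  obtain ⟨B₂, _, _, _, sB₂, φ₂, g₂, ψ₂, hg₂, hgψ₂, hint₂⟩ := exists_integral_lift hP str sR c _ hftP hinjP
    hγ.symm p (sq.lift b ((yon S).map c) (hab.symm.trans hc.symm)) (sq.lift_snd _ _ _)
  obtain ⟨R', _, _, _, χ, hχ⟩ := exists_etale_controlling p ψ₁ ψ₂ hint₁ hint₂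
  let sR' : Spec (CommRingCat.of R') ⟶ S := Spec.map (CommRingCat.ofHom (algebraMap R R')) ≫ sR
  let e : Over.mk sR' ⟶ Over.mk sR := Over.homMk (Spec.map (CommRingCat.ofHom (algebraMap R R'))) rfl
  have heχ : Spec.map (CommRingCat.ofHom χ.toRingHom) ≫ e.left = c.left := by
    rw [← hγ]
    exact (Spec.map_comp _ _).symm.trans
      (congrArg Spec.map (CommRingCat.hom_ext (RingHom.ext fun r => χ.commutes r)))
  let c' : Over.mk str ⟶ Over.mk sR' := Over.homMk (Spec.map (CommRingCat.ofHom χ.toRingHom)) (by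
    show _ ≫ sR' = str
    exact (Category.assoc _ _ _).symm.trans ((congrArg (· ≫ _) heχ).trans (Over.w c)))
  have hc' : c' ≫ e = c := Over.OverMorphism.ext heχ
  let v' := (yon S).map e ≫ v
  have hv' : RepWith @Etale v' := repWith_comp ((repWith_yon_map_iff _ _).2
    (HasRingHomProperty.Spec_iff.2 (RingHom.etale_algebraMap.2 ‹_›))) hv
  have sq' := IsPullback.of_hasPullback f.hom v'
  let Vs' : AlgSp.Space S := ⟨(yon S).obj (Over.mk sR'), IsAlgSpace.yon_obj _⟩
  have hinjP' : Function.Injective (Points.map (pullback.snd f.hom v')) :=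
    hinj Vs' (ObjectProperty.homMk v') (isEtaleMor_of_repWith v' hv') _ _ _ sq'
  have hcv' : (yon S).map c' ≫ v' = a ≫ f.hom := by
    rw [← Functor.map_comp_assoc, hc', hc]
  let A' := sq'.lift a ((yon S).map c') hcv'.symm
  let B' := sq'.lift b ((yon S).map c') (hab.symm.trans hcv'.symm)
  let τ := Points.ofScheme (Over.mk str) (IsLocalRing.closedPoint K)
  have hAB : Points.map A' τ = Points.map B' τ := hinjP' (by
    rw [← Points.map_comp, ← Points.map_comp, sq'.lift_snd, sq'.lift_snd])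
  let qA : FieldPt (pullback f.hom v') := ⟨K, str, sect A'⟩
  let qB : FieldPt (pullback f.hom v') := ⟨K, str, sect B'⟩
  have hqA : qA.toHom = A' := exists_fieldPt_toHom str A'
  have hqB : qB.toHom = B' := exists_fieldPt_toHom str B'
  have hA1 : Points.map A' τ = Points.mk qA := by rw [← hqA]; exact map_toHom_eq qA τ
  have hB1 : Points.map B' τ = Points.mk qB := by rw [← hqB]; exact map_toHom_eq qB τ
  obtain ⟨Ω, _, w, i, j, hij⟩ := exists_common_of_mk_eq (hA1.symm.trans (hAB.trans hB1))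
  rw [hqA, hqB] at hij
  change Over.mk w ⟶ Over.mk str at i
  change Over.mk w ⟶ Over.mk str at j
  have h2 : i ≫ c' = j ≫ c' := (yon S).map_injective (by
    have := hij =≫ pullback.snd f.hom v'
    simpa only [Category.assoc, A', B', sq'.lift_snd, ← Functor.map_comp] using this)
  obtain ⟨i₀, hi₀⟩ : ∃ m : CommRingCat.of K ⟶ CommRingCat.of Ω, Spec.map m = i.left :=
    ⟨Spec.preimage i.left, Spec.map_preimage _⟩
  obtain ⟨j₀, hj₀⟩ : ∃ m : CommRingCat.of K ⟶ CommRingCat.of Ω, Spec.map m = j.left :=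
    ⟨Spec.preimage j.left, Spec.map_preimage _⟩
  have hχeq : ∀ r, i₀.hom (χ r) = j₀.hom (χ r) := fun r => by
    refine congrArg (fun m : CommRingCat.of R' ⟶ CommRingCat.of Ω => m.hom r)
      (show CommRingCat.ofHom χ.toRingHom ≫ i₀ = CommRingCat.ofHom χ.toRingHom ≫ j₀ from Spec.map_injective ?_)
    rw [Spec.map_comp, Spec.map_comp, hi₀, hj₀]
    exact congrArg CommaMorphism.left h2
  have hg : i ≫ g₁ = j ≫ g₁ := Over.OverMorphism.ext (by
    change i.left ≫ g₁.left = j.left ≫ g₁.left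
    rw [hgψ₁, ← hi₀, ← hj₀, ← Spec.map_comp, ← Spec.map_comp]
    exact congrArg Spec.map (CommRingCat.hom_ext (RingHom.ext (hχ Ω i₀.hom j₀.hom hχeq).1)))
  haveI : Nonempty ↥(Over.mk w).left := ⟨IsLocalRing.closedPoint Ω⟩
  refine eq_of_comp_eq X.property str hab j ?_
  have h1 : (yon S).map i ≫ a = (yon S).map j ≫ b := by
    have := hij =≫ pullback.fst f.hom v'
    simpa only [Category.assoc, A', B', sq'.lift_fst] using this
  have ha : a = (yon S).map g₁ ≫ φ₁ ≫ pullback.fst f.hom v := by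
    rw [← Category.assoc, hg₁, sq.lift_fst]
  rw [← h1, ha, ← Functor.map_comp_assoc, ← Functor.map_comp_assoc, hg]

/-- Injectivity after every etale base change gives universal injectivity for maps locally of finite type. -/
theorem isUnivInjectiveMor_of_etale {X Y : AlgSp.Space S} (f : X ⟶ Y) (hft : LocP @LocallyOfFiniteType f.hom)
    (hinj : ∀ (V : AlgSp.Space S) (g : V ⟶ Y), IsEtaleMor g.hom →
      ∀ (P : Sp S) (fst : P ⟶ X.obj) (snd : P ⟶ V.obj), IsPullback fst snd f.hom g.hom →
        Function.Injective (Points.map snd)) :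
    IsUnivInjectiveMor f.hom := by
  refine isUnivInjectiveMor_of_fieldPts fun K _ str a b hab => ?_
  let K' := AlgebraicClosure K
  let str' : Spec (CommRingCat.of K') ⟶ S := Spec.map (CommRingCat.ofHom (algebraMap K K')) ≫ str
  let j : Over.mk str' ⟶ Over.mk str := Over.homMk (Spec.map (CommRingCat.ofHom (algebraMap K K'))) rfl
  haveI : Nonempty ↥(Over.mk str').left := ⟨IsLocalRing.closedPoint K'⟩
  exact eq_of_comp_eq X.property str hab j (eq_of_algClosed f hft hinj str' _ _ (by
    rw [Category.assoc, Category.assoc]; exact congrArg _ hab))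

end Groth.Agent.UIEt15
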